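import Mathlib.RingTheory.Smooth.Basic
import Mathlib.RingTheory.Kaehler.Basic
import Mathlib.RingTheory.Ideal.Cotangent
import Mathlib.LinearAlgebra.TensorProduct.Quotient

/-!
# The cotangent sequence for `A → B → C` with `A → C` surjective and `A → B` formally smooth

`0 → I / I² → J / J² → C ⊗ Ω[B⁄A] → 0` is split exact (S9450).
-/

set_option autoImplicit false
universe u

open TensorProduct

namespace K74.CotSplit

variable (A : Type u) [CommRing A]
    (B : Type u) [CommRing B] [Algebra A B] [Algebra.FormallySmooth A B] (C : Type u) [CommRing C]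
    [Algebra B C] [Algebra A C] [IsScalarTower A B C] (hC : Function.Surjective (algebraMap A C))

include hC in
/-- A lift of `B → C = A / I` to `A / I²`. -/
theorem exists_lift :
    ∃ σ : B →ₐ[A] A ⧸ (RingHom.ker (algebraMap A C)) ^ 2,
      ∀ (b : B) (a : A), σ b = Ideal.Quotient.mk _ a → algebraMap B C b = algebraMap A C a := by
  let I := RingHom.ker (algebraMap A C)
  let g : A ⧸ I ^ 2 →ₐ[A] C := Ideal.Quotient.liftₐ (I ^ 2) (Algebra.ofId A C) (fun a ha => by
    exact Ideal.pow_le_self two_ne_zero ha)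
  have hgmk : ∀ a, g (Ideal.Quotient.mk _ a) = algebraMap A C a := fun a => rfl
  have hg : Function.Surjective g := fun c => by
    obtain ⟨a, rfl⟩ := hC c
    exact ⟨Ideal.Quotient.mk _ a, rfl⟩
  have hg' : IsNilpotent (RingHom.ker (g : A ⧸ I ^ 2 →+* C)) := by
    refine ⟨2, ?_⟩
    have h1 : RingHom.ker (g : A ⧸ I ^ 2 →+* C) ≤ I.cotangentIdeal := by
      intro x hx
      obtain ⟨a, rfl⟩ := Ideal.Quotient.mk_surjective x
      rw [Ideal.mk_mem_cotangentIdeal]
      exact hx
    rw [Ideal.zero_eq_bot, eq_bot_iff, ← I.cotangentIdeal_square]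
    exact Ideal.pow_right_mono h1 2
  refine ⟨Algebra.FormallySmooth.liftOfSurjective (IsScalarTower.toAlgHom A B C) g hg hg', ?_⟩
  intro b a hab
  have h1 := Algebra.FormallySmooth.liftOfSurjective_apply (IsScalarTower.toAlgHom A B C) g hg hg' b
  rw [hab, hgmk] at h1
  exact h1.symm

/-- An element `ω` with `1 ⊗ ω = 0` in `C ⊗ Ω` lies in `J Ω`. -/
theorem mem_smul_top_of_tmul_eq_zero {B : Type u} [CommRing B] {C : Type u} [CommRing C]
    [Algebra B C] (hBC : Function.Surjective (algebraMap B C)) {M : Type u} [AddCommGroup M]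
    [Module B M] (ω : M) (h : (1 : C) ⊗ₜ[B] ω = 0) :
    ω ∈ RingHom.ker (algebraMap B C) • (⊤ : Submodule B M) := by
  let e : (B ⧸ RingHom.ker (algebraMap B C)) ≃ₐ[B] C :=
    Ideal.quotientKerAlgEquivOfSurjective (f := Algebra.ofId B C) hBC
  have h1 : (1 : B ⧸ RingHom.ker (algebraMap B C)) ⊗ₜ[B] ω = 0 := by
    have h2 := congrArg (LinearMap.rTensor M e.symm.toLinearMap) h
    rw [LinearMap.rTensor_tmul, map_zero] at h2
    have h3 : e.symm.toLinearMap (1 : C) = 1 := map_one e.symm
    rwa [h3] at h2
  have h4 := congrArg (TensorProduct.quotTensorEquivQuotSMul M (RingHom.ker (algebraMap B C))) h1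
  rw [TensorProduct.quotTensorEquivQuotSMul_mk_one_tmul, map_zero,
    Submodule.Quotient.mk_eq_zero] at h4
  exact h4

include hC in
theorem main :
    Function.Injective (Ideal.mapCotangent (RingHom.ker (algebraMap A C))
        (RingHom.ker (algebraMap B C)) (Algebra.ofId A B)
        (le_of_eq (congrArg RingHom.ker (IsScalarTower.algebraMap_eq A B C)))) ∧
      (∃ r : (RingHom.ker (algebraMap B C)).Cotangent →ₗ[A] (RingHom.ker (algebraMap A C)).Cotangent,
        r ∘ₗ (Ideal.mapCotangent (RingHom.ker (algebraMap A C)) (RingHom.ker (algebraMap B C))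
          (Algebra.ofId A B)
          (le_of_eq (congrArg RingHom.ker (IsScalarTower.algebraMap_eq A B C)))) = LinearMap.id) ∧
      LinearMap.range (Ideal.mapCotangent (RingHom.ker (algebraMap A C))
          (RingHom.ker (algebraMap B C)) (Algebra.ofId A B)
          (le_of_eq (congrArg RingHom.ker (IsScalarTower.algebraMap_eq A B C)))) =
        LinearMap.ker ((KaehlerDifferential.kerCotangentToTensor A B C).restrictScalars A) ∧
      Function.Surjective (KaehlerDifferential.kerCotangentToTensor A B C) := by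
  have hBC : Function.Surjective (algebraMap B C) := by
    intro c
    obtain ⟨a, rfl⟩ := hC c
    exact ⟨algebraMap A B a, (IsScalarTower.algebraMap_apply A B C a).symm⟩
  obtain ⟨σ, hσ⟩ := exists_lift A B C hC
  let I := RingHom.ker (algebraMap A C)
  let J := RingHom.ker (algebraMap B C)
  -- `σ` maps `J` into `I / I²`
  have hσJ : ∀ x ∈ J, σ x ∈ I.cotangentIdeal := by
    intro x hx
    obtain ⟨a, ha⟩ := Ideal.Quotient.mk_surjective (σ x)
    rw [← ha, Ideal.mk_mem_cotangentIdeal]
    change algebraMap A C a = 0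
    rw [← hσ x a ha.symm]
    exact hx
  -- the retraction
  let f : J →ₗ[A] I.cotangentIdeal :=
    { toFun := fun x => ⟨σ x, hσJ x x.2⟩
      map_add' := fun x y => Subtype.ext (map_add σ _ _)
      map_smul' := fun a x => Subtype.ext (map_smul σ a _) }
  let r₀ : J.Cotangent →ₗ[A] I.cotangentIdeal := Ideal.Cotangent.lift f (by
    intro x y
    apply Subtype.ext
    change σ ((x : B) * (y : B)) = 0
    have h1 := Ideal.mul_mem_mul (hσJ x x.2) (hσJ y y.2)
    rw [← pow_two, I.cotangentIdeal_square, Ideal.mem_bot] at h1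
    rw [map_mul, h1])
  let r : J.Cotangent →ₗ[A] I.Cotangent := I.cotangentEquivIdeal.symm.toLinearMap ∘ₗ r₀
  have hr : r ∘ₗ (Ideal.mapCotangent (RingHom.ker (algebraMap A C)) (RingHom.ker (algebraMap B C))
          (Algebra.ofId A B)
          (le_of_eq (congrArg RingHom.ker (IsScalarTower.algebraMap_eq A B C)))) = LinearMap.id := by
    ext x
    obtain ⟨x, rfl⟩ := Ideal.toCotangent_surjective _ x
    change I.cotangentEquivIdeal.symm ⟨σ (algebraMap A B x), _⟩ = _
    rw [LinearEquiv.symm_apply_eq]
    apply Subtype.ext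
    change σ (algebraMap A B x) = _
    rw [AlgHom.commutes]
    rfl
  refine ⟨?_, ⟨r, hr⟩, ?_, ?_⟩
  · exact Function.LeftInverse.injective (g := r) fun x => congr($hr x)
  · apply le_antisymm
    · rintro _ ⟨x, rfl⟩
      obtain ⟨x, rfl⟩ := Ideal.toCotangent_surjective _ x
      rw [Ideal.mapCotangent_toCotangent, LinearMap.mem_ker]
      change (1 : C) ⊗ₜ[B] KaehlerDifferential.D A B (algebraMap A B x) = 0
      rw [Derivation.map_algebraMap, tmul_zero]
    · intro x hx
      obtain ⟨x, rfl⟩ := Ideal.toCotangent_surjective _ x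
      have hx' : (1 : C) ⊗ₜ[B] KaehlerDifferential.D A B (x : B) = 0 := hx
      have hx2 := mem_smul_top_of_tmul_eq_zero hBC _ hx'
      let K : Ideal (B ⧸ J ^ 2) := J.cotangentIdeal
      have hIJ : ∀ a ∈ I, algebraMap A B a ∈ J := fun a ha => by
        change algebraMap B C (algebraMap A B a) = 0
        rw [← IsScalarTower.algebraMap_apply A B C]
        exact ha
      have hI2 : ∀ a ∈ I ^ 2, algebraMap A (B ⧸ J ^ 2) a = 0 := by
        intro a ha
        rw [IsScalarTower.algebraMap_apply A B (B ⧸ J ^ 2), Ideal.Quotient.algebraMap_eq,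
          Ideal.Quotient.eq_zero_iff_mem]
        have h1 : (I ^ 2).map (algebraMap A B) ≤ J ^ 2 := by
          rw [Ideal.map_pow]
          exact Ideal.pow_right_mono (Ideal.map_le_iff_le_comap.2 hIJ) 2
        exact h1 (Ideal.mem_map_of_mem _ ha)
      let ρ : A ⧸ I ^ 2 →ₐ[A] B ⧸ J ^ 2 :=
        Ideal.Quotient.liftₐ (I ^ 2) (Algebra.ofId A (B ⧸ J ^ 2)) hI2
      let τ : B →ₐ[A] B ⧸ J ^ 2 := ρ.comp σ
      have hτ : ∀ (b : B) (a : A), σ b = Ideal.Quotient.mk _ a →
          τ b = Ideal.Quotient.mk (J ^ 2) (algebraMap A B a) := by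
        intro b a hab
        change ρ (σ b) = _
        rw [hab]
        rfl
      have e : (Ideal.Quotient.mkₐ A K).comp τ = IsScalarTower.toAlgHom A B ((B ⧸ J ^ 2) ⧸ K) := by
        ext b
        obtain ⟨a, ha⟩ := Ideal.Quotient.mk_surjective (σ b)
        change Ideal.Quotient.mk K (τ b) = Ideal.Quotient.mk K (Ideal.Quotient.mk (J ^ 2) b)
        rw [hτ b a ha.symm, Ideal.Quotient.eq, ← map_sub, Ideal.mk_mem_cotangentIdeal]
        change algebraMap B C (algebraMap A B a - b) = 0
        rw [map_sub, hσ b a ha.symm, IsScalarTower.algebraMap_apply A B C, sub_self]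
      let δ : Derivation A B K := derivationToSquareZeroOfLift K J.cotangentIdeal_square τ e
      have hδ0 : ∀ ω ∈ J • (⊤ : Submodule B Ω[B⁄A]), δ.liftKaehlerDifferential ω = 0 := by
        intro ω hω
        induction hω using Submodule.smul_induction_on' with
        | smul j hj k hk =>
          rw [map_smul]
          apply Subtype.ext
          change j • ((δ.liftKaehlerDifferential k : K) : B ⧸ J ^ 2) = 0
          rw [Algebra.smul_def]
          have h1 : algebraMap B (B ⧸ J ^ 2) j ∈ K := by
            rw [Ideal.Quotient.algebraMap_eq, Ideal.mk_mem_cotangentIdeal]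
            exact hj
          have h2 := Ideal.mul_mem_mul h1 (δ.liftKaehlerDifferential k).2
          rwa [← pow_two, J.cotangentIdeal_square, Ideal.mem_bot] at h2
        | add u hu v hv h1 h2 => rw [map_add, h1, h2, add_zero]
      have hδ : δ (x : B) = 0 := by
        rw [← δ.liftKaehlerDifferential_comp_D]
        exact hδ0 _ hx2
      have hτx : τ (x : B) = Ideal.Quotient.mk (J ^ 2) (x : B) := by
        have h1 := derivationToSquareZeroOfLift_apply K J.cotangentIdeal_square τ e (x : B)
        change ((δ (x : B) : K) : B ⧸ J ^ 2) = _ at h1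
        rw [hδ] at h1
        exact (sub_eq_zero.1 h1.symm)
      obtain ⟨a, ha⟩ := Ideal.Quotient.mk_surjective (σ (x : B))
      have haI : a ∈ I := by
        rw [← Ideal.mk_mem_cotangentIdeal, ha]
        exact hσJ _ x.2
      refine ⟨Ideal.toCotangent I ⟨a, haI⟩, ?_⟩
      rw [Ideal.mapCotangent_toCotangent, Ideal.toCotangent_eq]
      change algebraMap A B a - (x : B) ∈ J ^ 2
      rw [← Ideal.Quotient.eq, ← hτ _ _ ha.symm, hτx]
  · rw [← LinearMap.range_eq_top, KaehlerDifferential.range_kerCotangentToTensor A B C hBC]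
    have := KaehlerDifferential.subsingleton_of_surjective A C hC
    rw [eq_top_iff]
    intro x _
    exact Subsingleton.elim _ _

end K74.CotSplit
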