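import Groth.Agent.S0543
import Mathlib.RingTheory.Ideal.MinimalPrime.Localization
import Mathlib.RingTheory.Flat.Localization
import Mathlib.RingTheory.Ideal.AssociatedPrime.Basic
import Mathlib.RingTheory.AdicCompletion.Noetherian
import Mathlib.RingTheory.DiscreteValuationRing.TFAE
import Mathlib.RingTheory.Filtration
import Mathlib.RingTheory.Regular.Flat
import Mathlib.RingTheory.Flat.TorsionFree

/-!
# Localizations of flat algebras at associated primes of a reduced fibre over a discrete valuation
ring

* `dvr_of_generator`: a Noetherian local ring whose maximal ideal is generated by a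
  nonzerodivisor is a discrete valuation ring.
* `dvr_of_flat` (S9439).
-/

set_option autoImplicit false
universe u v

open IsLocalRing

namespace K74.DvrFlat

theorem exists_eq_pow_mul {A : Type u} [CommRing A] [IsLocalRing A] [IsNoetherianRing A] (π : A)
    (hπ : maximalIdeal A = Ideal.span {π}) (x : A) (hx : x ≠ 0) :
    ∃ (n : ℕ) (u : A), IsUnit u ∧ x = π ^ n * u := by
  classical
  have h1 : ∃ n, x ∉ maximalIdeal A ^ n := by
    by_contra h
    push Not at h
    have h2 : x ∈ (⨅ n, maximalIdeal A ^ n : Ideal A) := by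
      rw [Ideal.mem_iInf]
      exact h
    rw [Ideal.iInf_pow_eq_bot_of_isLocalRing _ (maximalIdeal.isMaximal A).ne_top] at h2
    exact hx h2
  obtain ⟨n, hn⟩ : ∃ n, Nat.find h1 = n + 1 := by
    refine Nat.exists_eq_succ_of_ne_zero fun h0 => ?_
    have := Nat.find_spec h1
    rw [h0, pow_zero] at this
    exact this (by simp)
  have h2 : x ∈ maximalIdeal A ^ n := by
    by_contra h
    exact Nat.find_min h1 (by omega) h
  have h3 : x ∉ maximalIdeal A ^ (n + 1) := by
    rw [← hn]
    exact Nat.find_spec h1
  rw [hπ, Ideal.span_singleton_pow, Ideal.mem_span_singleton'] at h2 h3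
  obtain ⟨u, hu⟩ := h2
  refine ⟨n, u, ?_, by rw [← hu, mul_comm]⟩
  by_contra hu'
  have hu2 : u ∈ maximalIdeal A := hu'
  rw [hπ, Ideal.mem_span_singleton'] at hu2
  obtain ⟨w, hw⟩ := hu2
  exact h3 ⟨w, by rw [← hu, ← hw]; ring⟩

/-- A Noetherian local ring whose maximal ideal is generated by a nonzerodivisor is a discrete
valuation ring. -/
theorem dvr_of_generator {A : Type u} [CommRing A] [IsLocalRing A] [IsNoetherianRing A] (π : A)
    (hπ0 : π ∈ nonZeroDivisors A) (hπ : maximalIdeal A = Ideal.span {π}) :
    ∃ _ : IsDomain A, IsDiscreteValuationRing A := by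
  have hdom : IsDomain A := by
    refine @NoZeroDivisors.to_isDomain A _ _ ⟨?_⟩
    intro a b hab
    by_contra h
    push Not at h
    obtain ⟨n, u, hu, rfl⟩ := exists_eq_pow_mul π hπ a h.1
    obtain ⟨m, v, hv, rfl⟩ := exists_eq_pow_mul π hπ b h.2
    have h1 : (u * v) * π ^ (n + m) = 0 := by rw [← hab]; ring
    have h2 : u * v = 0 :=
      (mul_right_mem_nonZeroDivisors_eq_zero_iff (pow_mem hπ0 (n + m))).1 h1
    exact (hu.mul hv).ne_zero h2
  refine ⟨hdom, ?_⟩
  have hR : ¬ IsField A := by
    intro hc
    rw [IsLocalRing.isField_iff_maximalIdeal_eq.1 hc] at hπ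
    have h0 : π = 0 := by simpa using hπ.symm
    exact nonZeroDivisors.ne_zero hπ0 h0
  have hpr : (maximalIdeal A).IsPrincipal := ⟨⟨π, hπ⟩⟩
  exact ((IsDiscreteValuationRing.TFAE A hR).out 0 4).2 hpr

/-- An associated prime of `B / J` for a radical ideal `J` is minimal over `J`. -/
theorem mem_minimalPrimes_of_isRadical {B : Type u} [CommRing B] [IsNoetherianRing B] {J q : Ideal B}
    (hJ : J.IsRadical) (hq : q ∈ associatedPrimes B (B ⧸ J)) :
    q ∈ J.minimalPrimes ∧ ∃ v, v ∉ J ∧ ∀ y, y ∈ q ↔ y * v ∈ J := by
  obtain ⟨hqp, v, hv⟩ := isAssociatedPrime_iff.mp hq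
  obtain ⟨v, rfl⟩ := Ideal.Quotient.mk_surjective v
  have key : ∀ y : B, y ∈ q ↔ y * v ∈ J := by
    intro y
    conv_lhs => rw [hv]
    rw [Submodule.mem_colon_singleton, Submodule.mem_bot, Algebra.smul_def,
      Ideal.Quotient.algebraMap_eq, ← map_mul, Ideal.Quotient.eq_zero_iff_mem]
  have hvJ : v ∉ J := by
    intro h
    apply hqp.ne_top
    rw [Ideal.eq_top_iff_one, key]
    simpa using h
  refine ⟨?_, v, hvJ, key⟩
  have hvJ' := hvJ
  rw [← hJ.radical, ← Ideal.sInf_minimalPrimes, Submodule.mem_sInf] at hvJ'
  push Not at hvJ'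
  obtain ⟨q', hq', hvq'⟩ := hvJ'
  have hle : q ≤ q' := by
    intro y hy
    have := hq'.1.2 ((key y).mp hy)
    exact (hq'.1.1.mem_or_mem this).resolve_right hvq'
  have hJq : J ≤ q := by
    intro y hy
    rw [key]
    exact J.mul_mem_right _ hy
  have : q = q' := le_antisymm hle (hq'.2 ⟨hqp, hJq⟩ hle)
  rw [this]
  exact hq'

/-- Let `A` be a flat Noetherian `R`-algebra, `p` a prime of `R` with `R_p` a discrete valuation
ring and `A / pA` reduced.  Then `A_q` is a discrete valuation ring for each associated prime `q`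
of `A / pA`. -/
theorem dvr_of_flat (R : Type u) (A : Type v) [CommRing R] [CommRing A] [IsNoetherianRing A]
    [Algebra R A] [Module.Flat R A] (p : Ideal R) [p.IsPrime]
    [IsDomain (Localization.AtPrime p)] [IsDiscreteValuationRing (Localization.AtPrime p)]
    (hred : IsReduced (A ⧸ p.map (algebraMap R A))) (q : Ideal A) [q.IsPrime]
    (hq : q ∈ associatedPrimes A (A ⧸ p.map (algebraMap R A))) :
    ∃ _ : IsDomain (Localization.AtPrime q), IsDiscreteValuationRing (Localization.AtPrime q) := by
  have hJ : (p.map (algebraMap R A)).IsRadical := by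
    rwa [Ideal.isRadical_iff_quotient_reduced]
  obtain ⟨hmin, v, hv, hkey⟩ := mem_minimalPrimes_of_isRadical hJ hq
  -- `q` lies over `p`
  have hover : q.comap (algebraMap R A) = p := by
    apply le_antisymm
    · intro r hr
      by_contra hrp
      have h1 : algebraMap R A r * v ∈ p.map (algebraMap R A) := (hkey _).1 hr
      -- `r` is a nonzerodivisor on `A / pA`
      have hinj : Function.Injective ((LinearMap.lsmul R (R ⧸ p) r).lTensor A) := by
        apply Module.Flat.lTensor_preserves_injective_linearMap
        rw [injective_iff_map_eq_zero]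
        intro a ha
        obtain ⟨a, rfl⟩ := Ideal.Quotient.mk_surjective a
        rw [LinearMap.lsmul_apply, Algebra.smul_def, Ideal.Quotient.algebraMap_eq, ← map_mul,
          Ideal.Quotient.eq_zero_iff_mem] at ha
        rw [Ideal.Quotient.eq_zero_iff_mem]
        exact (‹p.IsPrime›.mem_or_mem ha).resolve_left hrp
      let e := Algebra.TensorProduct.quotIdealMapEquivTensorQuot A p
      have he : ∀ y : A, e (Ideal.Quotient.mk _ y) = y ⊗ₜ[R] (1 : R ⧸ p) := by
        intro y
        have : e (Ideal.Quotient.mk _ y) = algebraMap A _ y := e.commutes y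
        rw [this, Algebra.TensorProduct.algebraMap_apply]
        rfl
      apply hv
      rw [← Ideal.Quotient.eq_zero_iff_mem]
      apply e.injective
      apply hinj
      rw [map_zero, map_zero, he, LinearMap.lTensor_tmul, LinearMap.lsmul_apply,
        ← TensorProduct.smul_tmul, Algebra.smul_def, ← he,
        Ideal.Quotient.eq_zero_iff_mem.2 h1, map_zero]
    · exact Ideal.map_le_iff_le_comap.1 hmin.1.2
  -- the maximal ideal of `A_q` is generated by `p`
  have hmax : maximalIdeal (Localization.AtPrime q) =
      (p.map (algebraMap R A)).map (algebraMap A (Localization.AtPrime q)) := by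
    rw [← IsLocalization.AtPrime.map_eq_maximalIdeal q (Localization.AtPrime q)]
    apply le_antisymm
    · rw [Ideal.map_le_iff_le_comap]
      intro y hy
      have h1 : algebraMap A (Localization.AtPrime q) y ∈
          ((p.map (algebraMap R A)).map (algebraMap A (Localization.AtPrime q))).radical := by
        rw [IsLocalization.AtPrime.radical_map_of_mem_minimalPrimes _ q _ hmin]
        exact Ideal.mem_map_of_mem _ hy
      obtain ⟨n, hn⟩ := h1
      rw [← map_pow, IsLocalization.algebraMap_mem_map_algebraMap_iff q.primeCompl] at hn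
      obtain ⟨t, ht, htn⟩ := hn
      rw [Ideal.mem_comap, IsLocalization.algebraMap_mem_map_algebraMap_iff q.primeCompl]
      refine ⟨t, ht, hJ ⟨n + 1, ?_⟩⟩
      have : (t * y) ^ (n + 1) = t ^ n * y * (t * y ^ n) := by ring
      rw [this]
      exact Ideal.mul_mem_left _ _ htn
    · exact Ideal.map_mono hmin.1.2
  -- a uniformizer
  obtain ⟨ϖ, hϖ⟩ := IsDiscreteValuationRing.exists_irreducible (Localization.AtPrime p)
  have hϖ0 : ϖ ≠ 0 := hϖ.ne_zero
  have hϖm : maximalIdeal (Localization.AtPrime p) = Ideal.span {ϖ} := hϖ.maximalIdeal_eq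
  have hlies : q.LiesOver p := ⟨hover.symm⟩
  let := Localization.AtPrime.algebraOfLiesOver p q
  have htow : ∀ r : R, algebraMap (Localization.AtPrime p) (Localization.AtPrime q)
      (algebraMap R (Localization.AtPrime p) r) = algebraMap A (Localization.AtPrime q)
        (algebraMap R A r) := by
    intro r
    rw [← IsScalarTower.algebraMap_apply R (Localization.AtPrime p) (Localization.AtPrime q),
      ← IsScalarTower.algebraMap_apply R A (Localization.AtPrime q)]
  refine dvr_of_generator (algebraMap (Localization.AtPrime p) (Localization.AtPrime q) ϖ) ?_ ?_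
  · -- nonzerodivisor by flatness
    have h1 : ϖ ∈ nonZeroDivisors (Localization.AtPrime p) := mem_nonZeroDivisors_of_ne_zero hϖ0
    have h2 : IsSMulRegular (Localization.AtPrime q) ϖ :=
      Module.Flat.isSMulRegular_of_nonZeroDivisors h1
    rw [mem_nonZeroDivisors_iff_right]
    intro x hx
    apply h2
    change ϖ • x = ϖ • 0
    rw [smul_zero, Algebra.smul_def, mul_comm, hx]
  · rw [hmax, Ideal.map_map, ← IsScalarTower.algebraMap_eq R A (Localization.AtPrime q),
      IsScalarTower.algebraMap_eq R (Localization.AtPrime p) (Localization.AtPrime q),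
      ← Ideal.map_map, Localization.AtPrime.map_eq_maximalIdeal, hϖm, Ideal.map_span,
      Set.image_singleton]

end K74.DvrFlat
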