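import Mathlib.RingTheory.Unramified.LocalStructure
import Mathlib.RingTheory.Etale.StandardEtale
import Mathlib.RingTheory.AdjoinRoot
import Mathlib.RingTheory.Flat.FaithfullyFlat.Basic
import Mathlib.RingTheory.LocalRing.ResidueField.Basic
import Mathlib.FieldTheory.Minpoly.Field

/-!
# Maps out of an essentially étale local algebra

`S` is the localization of an étale `R`-algebra at a prime.  We choose a generator `x` coming from a
standard étale presentation.

* `exists_standard`: the universal property of `S` in terms of `x`.
-/

set_option autoImplicit false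
universe u v

open Polynomial IsLocalRing

namespace K74.EtaleLocal

/-- The universal property of an essentially étale local algebra, in terms of a generator. -/
theorem exists_standard (R : Type u) [CommRing R] (T : Type u) [CommRing T] [Algebra R T]
    [Algebra.Etale R T] (q : Ideal T) [q.IsPrime] (S : Type u) [CommRing S] [IsLocalRing S]
    [Algebra T S] [IsLocalization.AtPrime S q] [Algebra R S] [IsScalarTower R T S] :
    ∃ (P : StandardEtalePair R) (x : S), P.HasMap x ∧
      (∀ (W : Type u) [CommRing W] [Algebra R W] (σ τ : S →ₐ[R] W), σ x = τ x → σ = τ) ∧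
      (∀ (W : Type u) [CommRing W] [IsLocalRing W] [Algebra R W]
        (θ : ResidueField S →+* ResidueField W)
        (_ : ∀ r : R, θ (residue S (algebraMap R S r)) = residue W (algebraMap R W r))
        (y : W) (_ : aeval y P.f = 0) (_ : θ (residue S x) = residue W y),
        ∃ σ : S →ₐ[R] W, σ x = y ∧ ∀ s, residue W (σ s) = θ (residue S s)) ∧
      (∀ F : Subfield (ResidueField S), (∀ r, residue S (algebraMap R S r) ∈ F) →
        residue S x ∈ F → F = ⊤) := by
  obtain ⟨f, hf, ⟨⟨P⟩⟩⟩ := Algebra.IsEtaleAt.exists_isStandardEtale (R := R) q
  have hfu : IsUnit (algebraMap T S f) := IsLocalization.map_units S (⟨f, hf⟩ : q.primeCompl)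
  let ι : Localization.Away f →ₐ[R] S :=
    IsLocalization.Away.liftAlgHom f (f := IsScalarTower.toAlgHom R T S) hfu
  have hι : ∀ t : T, ι (algebraMap T _ t) = algebraMap T S t := fun t => by
    simp [ι, IsLocalization.Away.liftAlgHom]
  refine ⟨P.P, ι P.x, P.hasMap.map ι, ?_, ?_, ?_⟩
  · intro W _ _ σ τ h
    have h1 : σ.comp ι = τ.comp ι := P.hom_ext (by simpa using h)
    have h2 : (σ : S →+* W).comp (algebraMap T S) = (τ : S →+* W).comp (algebraMap T S) := by
      ext t
      have := congr($h1 (algebraMap T _ t))
      simpa [hι] using this
    have h3 := IsLocalization.ringHom_ext q.primeCompl h2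
    ext s
    exact congr($h3 s)
  · intro W _ _ _ θ hθ y hy hxy
    have hy' : P.P.HasMap y := by
      refine ⟨hy, ?_⟩
      have h1 : IsUnit (aeval (ι P.x) P.g) := (P.hasMap.map ι).2
      have h2 : residue W (aeval y P.g) = θ (residue S (aeval (ι P.x) P.g)) := by
        rw [aeval_def, aeval_def, hom_eval₂, hom_eval₂, hom_eval₂, hxy]
        congr 1
        ext r
        simp [hθ]
      rw [← residue_ne_zero_iff_isUnit, h2]
      exact ((h1.map (residue S)).map θ).ne_zero
    let σ₀ : Localization.Away f →ₐ[R] W := (P.P.lift y hy').comp P.equivRing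
    have hσ₀ : σ₀ P.x = y := by simp [σ₀]
    have key : ((residue W).comp σ₀.toRingHom) = (θ.comp (residue S)).comp ι.toRingHom := by
      letI : Algebra R (ResidueField W) := ((residue W).comp (algebraMap R W)).toAlgebra
      let a : Localization.Away f →ₐ[R] ResidueField W :=
        { (residue W).comp σ₀.toRingHom with
          commutes' := fun r => by
            change residue W (σ₀ (algebraMap R _ r)) = residue W (algebraMap R W r)
            rw [AlgHom.commutes] }
      let b : Localization.Away f →ₐ[R] ResidueField W :=
        { (θ.comp (residue S)).comp ι.toRingHom with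
          commutes' := fun r => by
            change θ (residue S (ι (algebraMap R _ r))) = residue W (algebraMap R W r)
            rw [AlgHom.commutes, hθ] }
      have hab : a = b := P.hom_ext (by
        change residue W (σ₀ P.x) = θ (residue S (ι P.x))
        rw [hσ₀, hxy])
      ext t
      exact congr($hab t)
    have hunit : ∀ u : q.primeCompl,
        IsUnit ((σ₀.comp (IsScalarTower.toAlgHom R T (Localization.Away f))).toRingHom u) := by
      intro u
      rw [← residue_ne_zero_iff_isUnit]
      have h1 := congr($key (algebraMap T _ (u : T)))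
      change residue W (σ₀ (algebraMap T _ (u : T))) = θ (residue S (ι (algebraMap T _ (u : T)))) at h1
      change residue W (σ₀ (algebraMap T _ (u : T))) ≠ 0
      rw [h1, hι]
      exact (((IsLocalization.map_units S u).map (residue S)).map θ).ne_zero
    let σ : S →ₐ[R] W :=
      { IsLocalization.lift (M := q.primeCompl) (S := S) hunit with
        commutes' := fun r => by
          change IsLocalization.lift (M := q.primeCompl) (S := S) hunit (algebraMap R S r) = _
          rw [IsScalarTower.algebraMap_apply R T S, IsLocalization.lift_eq]
          change σ₀ (algebraMap T _ (algebraMap R T r)) = _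
          rw [← IsScalarTower.algebraMap_apply R T, AlgHom.commutes] }
    have hσ : ∀ t : T, σ (algebraMap T S t) = σ₀ (algebraMap T _ t) := fun t =>
      IsLocalization.lift_eq (M := q.primeCompl) (S := S) hunit t
    have hσι : ∀ w, σ (ι w) = σ₀ w := by
      have : (σ.comp ι).toRingHom = σ₀.toRingHom := by
        refine IsLocalization.ringHom_ext (Submonoid.powers f) ?_
        ext t
        change σ (ι (algebraMap T _ t)) = σ₀ (algebraMap T _ t)
        rw [hι, hσ]
      intro w
      exact congr($this w)
    refine ⟨σ, by rw [hσι, hσ₀], ?_⟩
    have : (residue W).comp σ.toRingHom = θ.comp (residue S) := by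
      refine IsLocalization.ringHom_ext q.primeCompl ?_
      ext t
      change residue W (σ (algebraMap T S t)) = θ (residue S (algebraMap T S t))
      rw [hσ, ← hι]
      exact congr($key (algebraMap T _ t))
    intro s
    exact congr($this s)
  · intro F hF hxF
    have hpoly : ∀ p : R[X], residue S (aeval (ι P.x) p) ∈ F := by
      intro p
      let φ : R →+* F := ((residue S).comp (algebraMap R S)).codRestrict F hF
      have h1 : residue S (aeval (ι P.x) p) =
          F.subtype (eval₂ φ (⟨residue S (ι P.x), hxF⟩ : F) p) := by
        rw [aeval_def, hom_eval₂, hom_eval₂]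
        rfl
      rw [h1]
      exact (eval₂ φ (⟨residue S (ι P.x), hxF⟩ : F) p).2
    have hg : residue S (aeval (ι P.x) P.g) ≠ 0 := ((P.hasMap.map ι).2.map (residue S)).ne_zero
    have hloc : ∀ t : Localization.Away f, residue S (ι t) ∈ F := by
      intro t
      obtain ⟨p, n, hpn⟩ := P.exists_mul_aeval_x_g_pow_eq_aeval_x t
      have h1 : residue S (ι t) * residue S (aeval (ι P.x) P.g) ^ n =
          residue S (aeval (ι P.x) p) := by
        rw [aeval_algHom_apply, aeval_algHom_apply, ← map_pow, ← map_mul, ← map_pow, ← map_mul, hpn]
      rw [← eq_div_iff (pow_ne_zero n hg)] at h1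
      rw [h1]
      exact F.div_mem (hpoly p) (F.pow_mem (hpoly P.g) n)
    rw [eq_top_iff]
    rintro k -
    obtain ⟨s, rfl⟩ := residue_surjective k
    obtain ⟨⟨t, u⟩, htu⟩ := IsLocalization.surj q.primeCompl s
    have hu : residue S (algebraMap T S u) ≠ 0 :=
      ((IsLocalization.map_units S u).map (residue S)).ne_zero
    have h2 : residue S s * residue S (algebraMap T S u) = residue S (algebraMap T S t) := by
      rw [← map_mul]
      exact congrArg _ htu
    rw [← eq_div_iff hu] at h2
    rw [h2, ← hι, ← hι]
    exact F.div_mem (hloc _) (hloc _)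

end K74.EtaleLocal
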