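import Groth.Agent.CAlg.K74.EtaleLocal
import Mathlib.Algebra.Polynomial.Identities
import Mathlib.FieldTheory.Extension
import Mathlib.RingTheory.Finiteness.ModuleFinitePresentation
import Mathlib.RingTheory.Etale.Basic

/-!
# Essentially étale local algebras: comparison modulo `t ^ n`, factorization through a finite cover

* `exists_quotientMap_bijective` (S9433)
* `exists_finite_faithfullyFlat_factor` (S9434)
-/

set_option autoImplicit false
universe u v

open Polynomial IsLocalRing

namespace K74.EtaleLocal2

/-- In a local ring two roots of a polynomial which agree in the residue field and are simple are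
equal. -/
theorem root_unique {R : Type u} [CommRing R] {W : Type v} [CommRing W] [IsLocalRing W] [Algebra R W]
    (f : R[X]) (x y : W) (hx : aeval x f = 0) (hy : aeval y f = 0)
    (hx' : IsUnit (aeval x (derivative f))) (h : residue W x = residue W y) : y = x := by
  obtain ⟨k, hk⟩ := (f.map (algebraMap R W)).binomExpansion x (y - x)
  rw [add_sub_cancel, eval_map_algebraMap, eval_map_algebraMap, hx, hy, derivative_map,
    eval_map_algebraMap] at hk
  have hyx : y - x ∈ maximalIdeal W := by
    rw [← residue_eq_zero_iff, map_sub, h, sub_self]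
  have hu : IsUnit (aeval x (derivative f) + k * (y - x)) := by
    rw [← residue_ne_zero_iff_isUnit, map_add, map_mul, (residue_eq_zero_iff _).2 hyx, mul_zero,
      add_zero]
    exact (hx'.map (residue W)).ne_zero
  have h0 : (aeval x (derivative f) + k * (y - x)) * (y - x) = 0 := by
    linear_combination -hk
  exact sub_eq_zero.1 (hu.mul_right_eq_zero.1 h0)

theorem exists_quotientMap_bijective (R : Type u) [CommRing R] [IsLocalRing R] (T : Type u)
    [CommRing T] [Algebra R T]
    [Algebra.Etale R T] (q : Ideal T) [q.IsPrime] (S : Type u) [CommRing S] [IsLocalRing S]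
    [Algebra T S] [IsLocalization.AtPrime S q] [Algebra R S] [IsScalarTower R T S]
    [IsLocalHom (algebraMap R S)]
    (hres : Function.Bijective (IsLocalRing.ResidueField.map (algebraMap R S))) :
    ∃ t ∈ IsLocalRing.maximalIdeal R, ∀ n : ℕ, 1 ≤ n →
      Function.Bijective (Ideal.quotientMap ((Ideal.span {t ^ n}).map (algebraMap R S))
        (algebraMap R S) Ideal.le_comap_map) := by
  obtain ⟨P, x, hx, huniq, hlift, -⟩ := K74.EtaleLocal.exists_standard R T q S
  haveI : Algebra.FormallyEtale T S := Algebra.FormallyEtale.of_isLocalization q.primeCompl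
  haveI : Algebra.FormallyEtale R S := Algebra.FormallyEtale.comp R T S
  obtain ⟨a, ha⟩ : ∃ a : R, residue S (algebraMap R S a) = residue S x := by
    obtain ⟨y, hy⟩ := hres.2 (residue S x)
    obtain ⟨a, rfl⟩ := residue_surjective y
    exact ⟨a, by rw [← hy, ResidueField.map_residue]⟩
  have htm : aeval a P.f ∈ maximalIdeal R := by
    rw [← residue_eq_zero_iff]
    apply hres.1
    rw [ResidueField.map_residue, map_zero, ← aeval_algebraMap_apply]
    have h1 : residue S (aeval (algebraMap R S a) P.f) = residue S (aeval x P.f) := by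
      rw [aeval_def, aeval_def, hom_eval₂, hom_eval₂, ha]
    rw [h1, hx.1, map_zero]
  refine ⟨aeval a P.f, htm, fun n hn => ?_⟩
  set t := aeval a P.f with ht
  have hJ : Ideal.span {t ^ n} ≤ maximalIdeal R := by
    rw [Ideal.span_singleton_le_iff_mem]
    exact Ideal.pow_mem_of_mem _ htm n hn
  haveI : Nontrivial (R ⧸ Ideal.span {t ^ n}) :=
    Ideal.Quotient.nontrivial_iff.2 (ne_top_of_le_ne_top (maximalIdeal.isMaximal R).ne_top hJ)
  haveI : IsLocalRing (R ⧸ Ideal.span {t ^ n}) :=
    IsLocalRing.of_surjective' (Ideal.Quotient.mk _) Ideal.Quotient.mk_surjective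
  have hmap : (maximalIdeal R).map (algebraMap R S) ≤ maximalIdeal S :=
    ((IsLocalRing.local_hom_TFAE (algebraMap R S)).out 0 2).1 ‹_›
  have hJS : (Ideal.span {t ^ n}).map (algebraMap R S) ≤ maximalIdeal S :=
    (Ideal.map_mono hJ).trans hmap
  haveI : Nontrivial (S ⧸ (Ideal.span {t ^ n}).map (algebraMap R S)) :=
    Ideal.Quotient.nontrivial_iff.2 (ne_top_of_le_ne_top (maximalIdeal.isMaximal S).ne_top hJS)
  haveI : IsLocalRing (S ⧸ (Ideal.span {t ^ n}).map (algebraMap R S)) :=
    IsLocalRing.of_surjective' (Ideal.Quotient.mk _) Ideal.Quotient.mk_surjective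
  -- the nilpotent ideal `(t)` of `B = R / t ^ n`
  let B := R ⧸ Ideal.span {t ^ n}
  let I : Ideal B := Ideal.span {algebraMap R B t}
  have htB : (algebraMap R B t) ^ n = 0 := by
    have h := Ideal.Quotient.mk_singleton_self (t ^ n)
    rw [map_pow] at h
    exact h
  have hI : IsNilpotent I := ⟨n, by
    rw [Ideal.span_singleton_pow, htB, Ideal.zero_eq_bot, Ideal.span_singleton_eq_bot]⟩
  have hIm : I ≤ maximalIdeal B := by
    rw [Ideal.span_singleton_le_iff_mem, ← residue_eq_zero_iff, ← not_ne_iff,
      residue_ne_zero_iff_isUnit]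
    intro h
    haveI : IsLocalHom (algebraMap R B) :=
      IsLocalHom.of_surjective (algebraMap R B) Ideal.Quotient.mk_surjective
    exact htm (isUnit_of_map_unit (algebraMap R B) t h)
  haveI : Nontrivial (B ⧸ I) :=
    Ideal.Quotient.nontrivial_iff.2 (ne_top_of_le_ne_top (maximalIdeal.isMaximal B).ne_top hIm)
  haveI : IsLocalRing (B ⧸ I) :=
    IsLocalRing.of_surjective' (Ideal.Quotient.mk _) Ideal.Quotient.mk_surjective
  haveI hloc1 : IsLocalHom (algebraMap R (B ⧸ I)) :=
    IsLocalHom.of_surjective (algebraMap R (B ⧸ I))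
      (Ideal.Quotient.mk_surjective.comp Ideal.Quotient.mk_surjective)
  -- the residue field map
  let e := RingEquiv.ofBijective _ hres
  let θ : ResidueField S →+* ResidueField (B ⧸ I) :=
    (ResidueField.map (algebraMap R (B ⧸ I))).comp (e.symm : ResidueField S →+* ResidueField R)
  have hθ : ∀ r : R, θ (residue S (algebraMap R S r)) = residue (B ⧸ I) (algebraMap R (B ⧸ I) r) := by
    intro r
    have h1 : e.symm (residue S (algebraMap R S r)) = residue R r := by
      rw [RingEquiv.symm_apply_eq]
      exact (ResidueField.map_residue (algebraMap R S) r).symm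
    change ResidueField.map (algebraMap R (B ⧸ I)) (e.symm (residue S (algebraMap R S r))) = _
    rw [h1, ResidueField.map_residue]
  obtain ⟨σ₁, hσ₁, -⟩ := hlift (B ⧸ I) θ hθ (algebraMap R (B ⧸ I) a) (by
    rw [aeval_algebraMap_apply, ← ht, IsScalarTower.algebraMap_apply R B (B ⧸ I)]
    exact Ideal.Quotient.eq_zero_iff_mem.2 (Ideal.mem_span_singleton_self _)) (by
    rw [← ha, hθ])
  let σ : S →ₐ[R] B := Algebra.FormallySmooth.lift I hI σ₁
  have hσx : σ x - algebraMap R B a ∈ I := by
    rw [← Ideal.Quotient.eq_zero_iff_mem, map_sub, sub_eq_zero]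
    exact (Algebra.FormallySmooth.mk_lift I hI σ₁ x).trans hσ₁
  -- `C = S / t ^ n S`
  let C := S ⧸ (Ideal.span {t ^ n}).map (algebraMap R S)
  let g : B →+* C := Ideal.quotientMap ((Ideal.span {t ^ n}).map (algebraMap R S))
        (algebraMap R S) Ideal.le_comap_map
  have hg : ∀ r : R, g (algebraMap R B r) = algebraMap S C (algebraMap R S r) := fun r =>
    Ideal.quotientMap_mk
  let gₐ : B →ₐ[R] C := { g with commutes' := fun r => hg r }
  let π : S →ₐ[R] C := IsScalarTower.toAlgHom R S C
  let ψ : S →ₐ[R] C := gₐ.comp σ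
  haveI hlocC : IsLocalHom (algebraMap S C) :=
    IsLocalHom.of_surjective (algebraMap S C) Ideal.Quotient.mk_surjective
  haveI hlocB : IsLocalHom (algebraMap R B) :=
    IsLocalHom.of_surjective (algebraMap R B) Ideal.Quotient.mk_surjective
  have hroot : P.HasMap (π x) := hx.map π
  have hroot' : P.HasMap (ψ x) := hx.map ψ
  have hres' : residue C (π x) = residue C (ψ x) := by
    have h1 : residue C (π x) = residue C (algebraMap S C (algebraMap R S a)) := by
      change residue C (algebraMap S C x) = _
      rw [← ResidueField.map_residue (algebraMap S C), ← ResidueField.map_residue (algebraMap S C),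
        ha]
    rw [h1, ← hg, ← sub_eq_zero, ← map_sub, residue_eq_zero_iff]
    change g (algebraMap R B a) - g (σ x) ∈ _
    rw [← map_sub, ← neg_mem_iff, ← map_neg, neg_sub]
    obtain ⟨c, hc⟩ := Ideal.mem_span_singleton'.1 hσx
    rw [← hc, map_mul, hg]
    apply Ideal.mul_mem_left
    rw [← IsScalarTower.algebraMap_apply R S C]
    have hlocRC : IsLocalHom (algebraMap R C) := by
      rw [IsScalarTower.algebraMap_eq R S C]
      infer_instance
    have hmapC : (maximalIdeal R).map (algebraMap R C) ≤ maximalIdeal C :=
      ((IsLocalRing.local_hom_TFAE (algebraMap R C)).out 0 2).1 hlocRC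
    exact hmapC (Ideal.mem_map_of_mem _ htm)
  have hψπ : ψ = π := by
    have hxx : ψ x = π x :=
      root_unique P.f (π x) (ψ x) hroot.1 hroot'.1 hroot.isUnit_derivative_f hres'
    exact huniq C ψ π hxx
  constructor
  · -- injective: `σ` induces a left inverse
    rw [injective_iff_map_eq_zero]
    intro b hb
    obtain ⟨r, rfl⟩ := Ideal.Quotient.mk_surjective b
    have h1 : algebraMap R S r ∈ (Ideal.span {t ^ n}).map (algebraMap R S) := by
      rw [← Ideal.Quotient.eq_zero_iff_mem]
      exact hb
    have h2 : (Ideal.span {t ^ n}).map (algebraMap R S) ≤ RingHom.ker (σ : S →+* B) := by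
      rw [Ideal.map_span, Set.image_singleton, Ideal.span_singleton_le_iff_mem, RingHom.mem_ker]
      change σ (algebraMap R S (t ^ n)) = 0
      rw [AlgHom.commutes, map_pow, htB]
    have h3 : σ (algebraMap R S r) = 0 := h2 h1
    rw [AlgHom.commutes] at h3
    exact h3
  · intro c
    obtain ⟨s, rfl⟩ := Ideal.Quotient.mk_surjective c
    exact ⟨σ s, congr($hψπ s)⟩

theorem exists_finite_faithfullyFlat_factor (R : Type u) [CommRing R] [IsLocalRing R] (T : Type u)
    [CommRing T] [Algebra R T]
    [Algebra.Etale R T] (q : Ideal T) [q.IsPrime] (S : Type u) [CommRing S] [IsLocalRing S]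
    [Algebra T S] [IsLocalization.AtPrime S q] [Algebra R S] [IsScalarTower R T S]
    [IsLocalHom (algebraMap R S)] :
    ∃ (S' : Type u) (_ : CommRing S') (_ : Algebra R S'),
      Module.Finite R S' ∧ Algebra.FinitePresentation R S' ∧ Module.FaithfullyFlat R S' ∧
        ∀ (m' : Ideal S') [m'.IsMaximal], Nonempty (S →ₐ[R] Localization.AtPrime m') := by
  obtain ⟨P, x, hx, -, hlift, hgen⟩ := K74.EtaleLocal.exists_standard R T q S
  obtain ⟨S', _, _, hfin, hfree, _, hsplit⟩ := P.monic_f.exists_splits_map
  have hfp : Module.FinitePresentation R S' := Module.finitePresentation_of_projective R S'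
  refine ⟨S', _, _, hfin, inferInstance, inferInstance, fun m' hm' => ?_⟩
  let W := Localization.AtPrime m'
  have hcomap : (maximalIdeal W).comap (algebraMap R W) = maximalIdeal R := by
    rw [IsScalarTower.algebraMap_eq R S' W, ← Ideal.comap_comap]
    have h1 : (maximalIdeal W).comap (algebraMap S' W) = m' :=
      Localization.AtPrime.under_maximalIdeal
    rw [h1]
    have : (m'.comap (algebraMap R S')).IsMaximal := inferInstance
    exact IsLocalRing.eq_maximalIdeal this
  have hloc : IsLocalHom (algebraMap R W) :=
    ((IsLocalRing.local_hom_TFAE (algebraMap R W)).out 0 4).2 hcomap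
  let k := ResidueField R
  let K := ResidueField S
  let L := ResidueField W
  let : Algebra k K := (ResidueField.map (algebraMap R S)).toAlgebra
  let : Algebra k L := (ResidueField.map (algebraMap R W)).toAlgebra
  have hkK : ∀ r, algebraMap k K (residue R r) = residue S (algebraMap R S r) := fun r =>
    ResidueField.map_residue _ _
  have hkL : ∀ r, algebraMap k L (residue R r) = residue W (algebraMap R W r) := fun r =>
    ResidueField.map_residue _ _
  let fb : k[X] := P.f.map (residue R)
  have hfb : fb.Monic := P.monic_f.map _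
  have hfbx : aeval (residue S x) fb = 0 := by
    rw [aeval_def, eval₂_map]
    have : (algebraMap k K).comp (residue R) = (residue S).comp (algebraMap R S) := by
      ext r
      exact hkK r
    rw [this, ← hom_eval₂, ← aeval_def, hx.1, map_zero]
  have hint : IsIntegral k (residue S x) := ⟨fb, hfb, by rw [← aeval_def, hfbx]⟩
  have hcompL : (algebraMap k L).comp (residue R) =
      (residue W).comp ((algebraMap S' W).comp (algebraMap R S')) := by
    ext r
    exact (hkL r).trans (by rw [IsScalarTower.algebraMap_apply R S' W]; rfl)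
  have hfbL : fb.map (algebraMap k L) =
      (P.f.map (algebraMap R S')).map ((residue W).comp (algebraMap S' W)) := by
    rw [Polynomial.map_map, Polynomial.map_map, hcompL, RingHom.comp_assoc]
  have hsplitL : (fb.map (algebraMap k L)).Splits := by
    rw [hfbL]
    exact hsplit.map _
  have hadj : IntermediateField.adjoin k {residue S x} = ⊤ := by
    have h := hgen (IntermediateField.adjoin k {residue S x}).toSubfield (fun r => by
      rw [← hkK]
      exact (IntermediateField.adjoin k {residue S x}).algebraMap_mem _)
      (IntermediateField.mem_adjoin_simple_self k _)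
    rw [eq_top_iff]
    intro z _
    have : z ∈ (IntermediateField.adjoin k {residue S x}).toSubfield := by
      rw [h]
      trivial
    exact this
  obtain ⟨φ⟩ : Nonempty (K →ₐ[k] L) := by
    refine IntermediateField.nonempty_algHom_of_adjoin_splits (S := {residue S x}) ?_ hadj
    rintro s hs
    rw [Set.mem_singleton_iff] at hs
    subst hs
    refine ⟨hint, hsplitL.of_dvd (hfb.map _).ne_zero ?_⟩
    exact Polynomial.map_dvd _ (minpoly.dvd k _ hfbx)
  -- a root of `f` in `S'` with the right residue class
  obtain ⟨y, hy, hxy⟩ : ∃ y : S', aeval y P.f = 0 ∧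
      φ (residue S x) = residue W (algebraMap S' W y) := by
    obtain ⟨s, hs⟩ := splits_iff_exists_multiset.1 hsplit
    rw [(P.monic_f.map _).leadingCoeff, C_1, one_mul] at hs
    have h1 : eval (φ (residue S x)) (fb.map (algebraMap k L)) = 0 := by
      rw [eval_map_algebraMap, aeval_algHom_apply, hfbx, map_zero]
    rw [hfbL, hs, Polynomial.map_multiset_prod, Multiset.map_map, eval_multiset_prod,
      Multiset.map_map, Multiset.prod_eq_zero_iff, Multiset.mem_map] at h1
    obtain ⟨y, hys, hy⟩ := h1
    refine ⟨y, ?_, ?_⟩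
    · rw [← eval_map_algebraMap, hs, eval_multiset_prod, Multiset.map_map]
      exact Multiset.prod_eq_zero (Multiset.mem_map.2 ⟨y, hys, by simp⟩)
    · simpa [sub_eq_zero] using hy
  obtain ⟨σ, -, -⟩ := hlift W φ.toRingHom (fun r => by
    change φ _ = _
    rw [← hkK, AlgHom.commutes, hkL]) (algebraMap S' W y) (by
    rw [aeval_algebraMap_apply, hy, map_zero]) hxy
  exact ⟨σ⟩

end K74.EtaleLocal2
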