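import Mathlib.RingTheory.Smooth.IntegralClosure
import Mathlib.RingTheory.Smooth.Flat
import Mathlib.RingTheory.Flat.EquationalCriterion
import Mathlib.LinearAlgebra.TensorProduct.Vanishing
import Groth.Prelude.Def_Smoothing

/-!
# Integral closure commutes with ind-smooth base change

* `flat_of_indSmooth`: ind-smooth algebras are flat.
* `exists_factor_of_map_eq_zero`: vanishing in a tensor product happens at a finite stage.
* `toIntegralClosure_bijective` (S9446).

(Adapted from `Groth.Agent.Pi1C.IndEtaleIC`, which treats the ind-etale case.)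
-/

set_option autoImplicit false

universe u

open TensorProduct

namespace K74.IndSmoothIC

variable {A R : Type u} [CommRing A] [CommRing R] [Algebra A R]

theorem exists_smooth_of_aeval (h : Smoothing.IndSmooth A R) {n : ℕ} (p : MvPolynomial (Fin n) A) (x : Fin n → R)
    (hx : MvPolynomial.aeval x p = 0) :
    ∃ (E : Type u) (_ : CommRing E) (_ : Algebra A E) (_ : Algebra.Smooth A E) (χ : E →ₐ[A] R)
      (e : Fin n → E), (∀ i, χ (e i) = x i) ∧ MvPolynomial.aeval e p = 0 := by
  let I : Ideal (MvPolynomial (Fin n) A) := Ideal.span {p}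
  have hI : I.FG := ⟨{p}, by simp [I]⟩
  have : Algebra.FinitePresentation A (MvPolynomial (Fin n) A ⧸ I) :=
    Algebra.FinitePresentation.quotient hI
  let φ : (MvPolynomial (Fin n) A ⧸ I) →ₐ[A] R := Ideal.Quotient.liftₐ I (MvPolynomial.aeval x) (by
    intro a ha
    have h1 : I ≤ RingHom.ker (MvPolynomial.aeval x : MvPolynomial (Fin n) A →ₐ[A] R) := by
      rw [Ideal.span_le, Set.singleton_subset_iff]
      exact hx
    exact h1 ha)
  obtain ⟨E, _, _, _, ψ, χ, hχ⟩ := h _ inferInstance φ
  refine ⟨E, inferInstance, inferInstance, inferInstance, χ,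
    fun i => ψ (Ideal.Quotient.mk I (MvPolynomial.X i)), ?_, ?_⟩
  · intro i
    rw [← AlgHom.comp_apply, hχ]
    change (MvPolynomial.aeval x) (MvPolynomial.X i) = x i
    simp
  · have h2 : MvPolynomial.aeval (fun i => ψ (Ideal.Quotient.mk I (MvPolynomial.X i))) =
        (ψ.comp (Ideal.Quotient.mkₐ A I)) := by
      ext i
      simp
    rw [h2]
    simp only [AlgHom.comp_apply, Ideal.Quotient.mkₐ_eq_mk]
    rw [Ideal.Quotient.eq_zero_iff_mem.mpr (Ideal.mem_span_singleton_self p), map_zero]

theorem flat_of_indSmooth (h : Smoothing.IndSmooth A R) : Module.Flat A R := by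
  refine Module.Flat.of_forall_isTrivialRelation ?_
  intro l f x hfx
  obtain ⟨E, _, _, _, χ, e, he, hp⟩ := exists_smooth_of_aeval h
    (∑ i, MvPolynomial.C (f i) * MvPolynomial.X i) x (by
      simpa [Algebra.smul_def] using hfx)
  have hp' : ∑ i, f i • e i = 0 := by simpa [Algebra.smul_def] using hp
  have : Module.Flat A E := inferInstance
  obtain ⟨k, a, y, h1, h2⟩ := Module.Flat.isTrivialRelation_of_sum_smul_eq_zero hp'
  refine ⟨k, a, fun j => χ (y j), ?_, h2⟩
  intro i
  rw [← he i, h1 i, map_sum]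
  simp

/-- An element of `E ⊗ N` (`E` smooth over `A`) dying in `R ⊗ N` dies in `E' ⊗ N` for some smooth `E'`
through which `E → R` factors. -/
theorem exists_factor_of_map_eq_zero (h : Smoothing.IndSmooth A R) {E : Type u} [CommRing E] [Algebra A E]
    [Algebra.FinitePresentation A E] (χ : E →ₐ[A] R) {N : Type u} [AddCommGroup N] [Module A N]
    (z : E ⊗[A] N) (hz : TensorProduct.map χ.toLinearMap (LinearMap.id : N →ₗ[A] N) z = 0) :
    ∃ (E' : Type u) (_ : CommRing E') (_ : Algebra A E') (_ : Algebra.Smooth A E')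
      (ψ : E →ₐ[A] E') (χ' : E' →ₐ[A] R), χ'.comp ψ = χ ∧
      TensorProduct.map ψ.toLinearMap (LinearMap.id : N →ₗ[A] N) z = 0 := by
  have hflat : Module.Flat A R := flat_of_indSmooth h
  obtain ⟨k, e, m, rfl⟩ : ∃ (k : ℕ) (e : Fin k → E) (m : Fin k → N), z = ∑ i, e i ⊗ₜ[A] m i := by
    obtain ⟨s, hs⟩ := TensorProduct.exists_finset z
    refine ⟨s.card, fun i => (s.equivFin.symm i).1.1, fun i => (s.equivFin.symm i).1.2, ?_⟩
    rw [hs, ← Finset.sum_coe_sort s, ← Equiv.sum_comp s.equivFin.symm]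
  have hz' : ∑ i, m i ⊗ₜ[A] χ (e i) = 0 := by
    have := congrArg (TensorProduct.comm A R N) hz
    simpa using this
  obtain ⟨κ, a, y, h1, h2⟩ := TensorProduct.vanishesTrivially_of_sum_tmul_eq_zero_of_rTensor_injective A
    (Module.Flat.rTensor_preserves_injective_linearMap _ (Submodule.injective_subtype _)) hz'
  -- the algebra `E[Y_j] / (e_i - Σ a_ij Y_j)`
  let I : Ideal (MvPolynomial (Fin κ) E) :=
    Ideal.span (Set.range fun i : Fin k => MvPolynomial.C (e i) - ∑ j, a i j • MvPolynomial.X j)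
  have hI : I.FG := by
    classical
    exact ⟨Finset.image (fun i : Fin k => MvPolynomial.C (e i) -
      ∑ j, a i j • MvPolynomial.X j) Finset.univ, by simp [I]⟩
  have hfp1 : Algebra.FinitePresentation E (MvPolynomial (Fin κ) E ⧸ I) :=
    Algebra.FinitePresentation.quotient hI
  have hfp : Algebra.FinitePresentation A (MvPolynomial (Fin κ) E ⧸ I) :=
    Algebra.FinitePresentation.trans A E _
  let _ : Algebra E R := χ.toRingHom.toAlgebra
  have hst : IsScalarTower A E R := IsScalarTower.of_algebraMap_eq fun r => (χ.commutes r).symm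
  let φ₀ : MvPolynomial (Fin κ) E →ₐ[E] R := MvPolynomial.aeval y
  have hφ₀ : ∀ p ∈ I, φ₀ p = 0 := by
    intro p hp
    have h3 : I ≤ RingHom.ker φ₀ := by
      rw [Ideal.span_le]
      rintro _ ⟨i, rfl⟩
      change φ₀ _ = 0
      have h4 : χ (e i) = ∑ j, a i j • y j := h1 i
      rw [map_sub, map_sum, sub_eq_zero]
      have h5 : ∀ j, φ₀ (a i j • MvPolynomial.X j) = a i j • y j := fun j => by
        refine (LinearMap.map_smul_of_tower φ₀.toLinearMap (a i j) _).trans ?_
        rw [AlgHom.toLinearMap_apply, MvPolynomial.aeval_X]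
      simp only [h5]
      rw [← h4, MvPolynomial.algHom_C]
      rfl
    exact h3 hp
  let φ : (MvPolynomial (Fin κ) E ⧸ I) →ₐ[E] R := Ideal.Quotient.liftₐ I φ₀ hφ₀
  obtain ⟨E', _, _, _, ψ, χ', hχ'⟩ := h _ inferInstance (φ.restrictScalars A)
  let ι : E →ₐ[A] (MvPolynomial (Fin κ) E ⧸ I) := IsScalarTower.toAlgHom A E _
  refine ⟨E', inferInstance, inferInstance, inferInstance, ψ.comp ι, χ', ?_, ?_⟩
  · rw [← AlgHom.comp_assoc, hχ']
    ext x
    change φ (algebraMap E _ x) = _
    rw [φ.commutes]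
    rfl
  · simp only [map_sum, TensorProduct.map_tmul, AlgHom.toLinearMap_apply, LinearMap.id_coe, id_eq]
    have h6 : ∀ i, (ψ.comp ι) (e i) = ∑ j, a i j • ψ (Ideal.Quotient.mk I (MvPolynomial.X j)) := by
      intro i
      have h7 : (ι (e i) : MvPolynomial (Fin κ) E ⧸ I) =
          ∑ j, a i j • (Ideal.Quotient.mk I (MvPolynomial.X j)) := by
        have h8 : Ideal.Quotient.mk I (MvPolynomial.C (e i) - ∑ j, a i j • MvPolynomial.X j) = 0 :=
          Ideal.Quotient.eq_zero_iff_mem.mpr (Ideal.subset_span ⟨i, rfl⟩)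
        rw [map_sub, sub_eq_zero, map_sum] at h8
        exact h8
      rw [AlgHom.comp_apply, h7, map_sum]
      simp
    simp only [h6, TensorProduct.sum_tmul, TensorProduct.smul_tmul]
    rw [Finset.sum_comm]
    simp only [← TensorProduct.tmul_sum]
    refine Finset.sum_eq_zero fun j _ => ?_
    rw [h2 j, TensorProduct.tmul_zero]

/-- Integral closure commutes with ind-smooth base change. -/
theorem toIntegralClosure_bijective (h : Smoothing.IndSmooth A R) (B : Type u) [CommRing B] [Algebra A B] :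
    Function.Bijective (TensorProduct.toIntegralClosure A R B) := by
  have hflat : Module.Flat A R := flat_of_indSmooth h
  refine ⟨TensorProduct.toIntegralClosure_injective_of_flat, ?_⟩
  rintro ⟨x, hx⟩
  obtain ⟨p, hp, hpx⟩ := hx
  -- write down finitely many elements of `R`
  obtain ⟨k, r, b, rfl⟩ : ∃ (k : ℕ) (r : Fin k → R) (b : Fin k → B), x = ∑ i, r i ⊗ₜ[A] b i := by
    obtain ⟨s, hs⟩ := TensorProduct.exists_finset x
    refine ⟨s.card, fun i => (s.equivFin.symm i).1.1, fun i => (s.equivFin.symm i).1.2, ?_⟩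
    rw [hs, ← Finset.sum_coe_sort s, ← Equiv.sum_comp s.equivFin.symm]
  let d := p.natDegree
  obtain ⟨E, _, _, _, χ, e, he, -⟩ := exists_smooth_of_aeval h (n := k + d) 0
    (Fin.append r fun i : Fin d => p.coeff i) (by simp)
  have hlift : p ∈ Polynomial.lifts χ.toRingHom := by
    rw [Polynomial.lifts_iff_coeff_lifts]
    intro n
    rcases lt_trichotomy n d with hn | hn | hn
    · refine ⟨e (Fin.natAdd k ⟨n, hn⟩), ?_⟩
      have := he (Fin.natAdd k ⟨n, hn⟩)
      rw [Fin.append_right] at this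
      exact this
    · refine ⟨1, ?_⟩
      rw [map_one, hn]
      exact hp.coeff_natDegree.symm
    · refine ⟨0, ?_⟩
      rw [map_zero, Polynomial.coeff_eq_zero_of_natDegree_lt hn]
  obtain ⟨q, hq1, -, hq2⟩ := Polynomial.lifts_and_natDegree_eq_and_monic hlift hp
  let x₀ : E ⊗[A] B := ∑ i : Fin k, e (Fin.castAdd d i) ⊗ₜ[A] b i
  have hx₀ : Algebra.TensorProduct.map χ (AlgHom.id A B) x₀ = ∑ i, r i ⊗ₜ[A] b i := by
    simp only [x₀, map_sum, Algebra.TensorProduct.map_tmul]
    refine Finset.sum_congr rfl fun i _ => ?_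
    rw [he, Fin.append_left]
    rfl
  -- evaluation and base change
  have heval : ∀ {E₁ E₂ : Type u} [CommRing E₁] [CommRing E₂] [Algebra A E₁] [Algebra A E₂]
      (g : E₁ →ₐ[A] E₂) (q : Polynomial E₁) (x : E₁ ⊗[A] B),
      Polynomial.aeval (Algebra.TensorProduct.map g (AlgHom.id A B) x) (q.map g.toRingHom) =
        Algebra.TensorProduct.map g (AlgHom.id A B) (Polynomial.aeval x q) := by
    intro E₁ E₂ _ _ _ _ g q x
    rw [Polynomial.aeval_def, Polynomial.aeval_def, Polynomial.eval₂_map,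
      ← AlgHom.coe_toRingHom (Algebra.TensorProduct.map g (AlgHom.id A B)), Polynomial.hom_eval₂]
    congr 1
  have hz : TensorProduct.map χ.toLinearMap (LinearMap.id : B →ₗ[A] B) (Polynomial.aeval x₀ q) = 0 := by
    have h1 := heval χ q x₀
    rw [hq1, hx₀] at h1
    have h2 : Polynomial.aeval (∑ i, r i ⊗ₜ[A] b i) p = 0 := hpx
    rw [h2] at h1
    exact h1.symm
  obtain ⟨E', _, _, _, ψ, χ', hψ, hz'⟩ := exists_factor_of_map_eq_zero h χ _ hz
  have hint : IsIntegral E' (Algebra.TensorProduct.map ψ (AlgHom.id A B) x₀) := by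
    refine ⟨q.map ψ.toRingHom, hq2.map _, ?_⟩
    have h1 := heval ψ q x₀
    have h2 : Algebra.TensorProduct.map ψ (AlgHom.id A B) (Polynomial.aeval x₀ q) = 0 := hz'
    rw [h2] at h1
    exact h1
  obtain ⟨w, hw⟩ := (TensorProduct.toIntegralClosure_bijective_of_smooth (R := A) (S := E') (B := B)).2
    ⟨_, hint⟩
  refine ⟨Algebra.TensorProduct.map χ' (AlgHom.id A _) w, ?_⟩
  apply Subtype.ext
  have hcomm : ∀ w : E' ⊗[A] (integralClosure A B),
      ((TensorProduct.toIntegralClosure A R B (Algebra.TensorProduct.map χ' (AlgHom.id A _) w) :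
        integralClosure R (R ⊗[A] B)) : R ⊗[A] B) =
      Algebra.TensorProduct.map χ' (AlgHom.id A B)
        ((TensorProduct.toIntegralClosure A E' B w : integralClosure E' (E' ⊗[A] B)) : E' ⊗[A] B) := by
    intro w
    induction w using TensorProduct.induction_on with
    | zero => simp
    | tmul a b => simp [TensorProduct.toIntegralClosure]
    | add x y hx hy => rw [map_add, map_add, map_add, Subalgebra.coe_add, Subalgebra.coe_add, map_add,
        hx, hy]
  rw [hcomm, hw]
  change Algebra.TensorProduct.map χ' (AlgHom.id A B) (Algebra.TensorProduct.map ψ (AlgHom.id A B) x₀) =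
    ∑ i, r i ⊗ₜ[A] b i
  rw [← AlgHom.comp_apply, ← Algebra.TensorProduct.map_comp, hψ, AlgHom.comp_id, hx₀]

end K74.IndSmoothIC
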