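import Groth.Agent.CalgA.NagataBasic
import Groth.Agent.Ega4C.FracSub
import Groth.Agent.S2072
import Groth.Agent.S0576
import Groth.Agent.S0575

/-!
# A Noetherian local ring is Nagata as soon as its finite local domain extensions are analytically
unramified

* `thin C I`: the subalgebra `D + I C` of a subalgebra `C`.
* `isNagata_of_forall`
-/

set_option autoImplicit false
universe u

open IsLocalRing CAlg

namespace K74.NagataLocal

section Thin

variable {D : Type u} [CommRing D] {L : Type u} [CommRing L] [Algebra D L] (C : Subalgebra D L)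
  (I : Ideal D)

theorem smul_le : I • Subalgebra.toSubmodule C ≤ Subalgebra.toSubmodule C := Submodule.smul_le_right

theorem mul_mem_smul {n c : L} (hn : n ∈ I • Subalgebra.toSubmodule C) (hc : c ∈ C) :
    n * c ∈ I • Subalgebra.toSubmodule C := by
  induction hn using Submodule.smul_induction_on' with
  | smul r hr m hm =>
    rw [Algebra.smul_mul_assoc]
    exact Submodule.smul_mem_smul hr (C.mul_mem hm hc)
  | add x hx y hy h1 h2 =>
    rw [add_mul]
    exact add_mem h1 h2

/-- The subalgebra `D + I C` of `C`. -/
def thin : Subalgebra D L where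
  carrier := {x | ∃ d : D, x - algebraMap D L d ∈ I • Subalgebra.toSubmodule C}
  mul_mem' := by
    rintro x y ⟨d, hd⟩ ⟨e, he⟩
    refine ⟨d * e, ?_⟩
    have hy : y ∈ C := by
      have := C.add_mem (smul_le C I he) (C.algebraMap_mem e)
      rwa [sub_add_cancel] at this
    have h1 : x * y - algebraMap D L (d * e) =
        (x - algebraMap D L d) * y + d • (y - algebraMap D L e) := by
      rw [map_mul, Algebra.smul_def]
      ring
    rw [h1]
    exact add_mem (mul_mem_smul C I hd hy) (Submodule.smul_mem _ _ he)
  add_mem' := by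
    rintro x y ⟨d, hd⟩ ⟨e, he⟩
    refine ⟨d + e, ?_⟩
    have h1 : x + y - algebraMap D L (d + e) =
        (x - algebraMap D L d) + (y - algebraMap D L e) := by
      rw [map_add]
      ring
    rw [h1]
    exact add_mem hd he
  algebraMap_mem' := fun d => ⟨d, by rw [sub_self]; exact zero_mem _⟩

theorem mem_thin_iff {x : L} :
    x ∈ thin C I ↔ ∃ d : D, x - algebraMap D L d ∈ I • Subalgebra.toSubmodule C := Iff.rfl

theorem thin_le : thin C I ≤ C := by
  rintro x ⟨d, hd⟩
  have := C.add_mem (smul_le C I hd) (C.algebraMap_mem d)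
  rwa [sub_add_cancel] at this

theorem smul_le_thin : I • Subalgebra.toSubmodule C ≤ Subalgebra.toSubmodule (thin C I) := by
  intro x hx
  exact ⟨0, by rwa [map_zero, sub_zero]⟩

theorem finite_thin [IsNoetherianRing D] [Module.Finite D C] : Module.Finite D (thin C I) := by
  have : IsNoetherian D C := isNoetherian_of_isNoetherianRing_of_finite D C
  exact Module.Finite.of_injective (Subalgebra.inclusion (thin_le C I)).toLinearMap
    (Subalgebra.inclusion_injective (thin_le C I))

end Thin

section Local

variable {D : Type u} [CommRing D] [IsLocalRing D] {L : Type u} [CommRing L] [Nontrivial L]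
  [Algebra D L] (C : Subalgebra D L) [Algebra.IsIntegral D C]

omit [Nontrivial L] in
/-- `1 + n` is invertible in `C` for `n ∈ 𝔪 C`. -/
theorem exists_inverse (hinj : Function.Injective (algebraMap D L)) {n : L}
    (hn : n ∈ maximalIdeal D • Subalgebra.toSubmodule C) : ∃ y ∈ C, (1 + n) * y = 1 := by
  have hnC : n ∈ C := smul_le C _ hn
  let n' : C := ⟨n, hnC⟩
  have hn' : n' ∈ (maximalIdeal D).map (algebraMap D C) := by
    have h1 : maximalIdeal D • Subalgebra.toSubmodule C =
        ((maximalIdeal D • (⊤ : Submodule D C)).map C.val.toLinearMap) := by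
      rw [Submodule.map_smul'', Submodule.map_top]
      congr 1
      ext x
      simp
    rw [h1] at hn
    obtain ⟨m, hm, hmn⟩ := hn
    have h2 : m = n' := Subtype.ext hmn
    rw [h2, Ideal.smul_top_eq_map] at hm
    exact hm
  have hu : IsUnit (1 + n') := by
    by_contra h
    obtain ⟨M, hM, hmem⟩ := exists_max_ideal_of_mem_nonunits (mem_nonunits_iff.2 h)
    have h3 : (M.comap (algebraMap D C)).IsMaximal := inferInstance
    have h4 : M.comap (algebraMap D C) = maximalIdeal D := IsLocalRing.eq_maximalIdeal h3
    have h5 : (maximalIdeal D).map (algebraMap D C) ≤ M := Ideal.map_le_iff_le_comap.2 h4.ge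
    have h6 : (1 : C) ∈ M := by
      have := M.sub_mem hmem (h5 hn')
      rwa [add_sub_cancel_right] at this
    exact hM.ne_top ((Ideal.eq_top_iff_one M).2 h6)
  obtain ⟨y, hy⟩ := hu.exists_right_inv
  exact ⟨y, y.2, congrArg Subtype.val hy⟩

omit [Nontrivial L] in
theorem isUnit_thin (hinj : Function.Injective (algebraMap D L)) (x : thin C (maximalIdeal D))
    {d : D} (hd : (x : L) - algebraMap D L d ∈ maximalIdeal D • Subalgebra.toSubmodule C)
    (hdu : IsUnit d) : IsUnit x := by
  obtain ⟨e, he⟩ := hdu.exists_right_inv
  have hde : algebraMap D L d * algebraMap D L e = 1 := by rw [← map_mul, he, map_one]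
  set n : L := e • ((x : L) - algebraMap D L d) with hn
  have hnm : n ∈ maximalIdeal D • Subalgebra.toSubmodule C := Submodule.smul_mem _ _ hd
  have hx : (x : L) = algebraMap D L d * (1 + n) := by
    rw [hn, Algebra.smul_def, mul_add, mul_one, ← mul_assoc, hde, one_mul]
    ring
  obtain ⟨y, hyC, hy⟩ := exists_inverse C hinj hnm
  have hyt : y ∈ thin C (maximalIdeal D) := by
    refine ⟨1, ?_⟩
    have : y - algebraMap D L 1 = -(n * y) := by
      rw [map_one]
      linear_combination hy
    rw [this]
    exact neg_mem (mul_mem_smul C _ hnm hyC)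
  refine IsUnit.of_mul_eq_one (⟨y, hyt⟩ * algebraMap D _ e) (Subtype.ext ?_)
  change (x : L) * (y * algebraMap D L e) = 1
  rw [hx]
  linear_combination (algebraMap D L d * algebraMap D L e) * hy + hde

theorem isLocalRing_thin (hinj : Function.Injective (algebraMap D L)) :
    IsLocalRing (thin C (maximalIdeal D)) := by
  refine IsLocalRing.of_isUnit_or_isUnit_one_sub_self fun x => ?_
  obtain ⟨d, hd⟩ := x.2
  rcases IsLocalRing.isUnit_or_isUnit_one_sub_self d with h | h
  · exact Or.inl (isUnit_thin C hinj x hd h)
  · refine Or.inr (isUnit_thin C hinj (1 - x) (d := 1 - d) ?_ h)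
    have : ((1 - x : thin C (maximalIdeal D)) : L) - algebraMap D L (1 - d) =
        -((x : L) - algebraMap D L d) := by
      rw [map_sub, map_one]
      push_cast
      ring
    rw [this]
    exact neg_mem hd

end Local

theorem isFractionRing_thin {D : Type u} [CommRing D] {L : Type u} [Field L] [Algebra D L]
    (hinj : Function.Injective (algebraMap D L)) (C : Subalgebra D L) [IsFractionRing C L]
    (I : Ideal D) (hI : I ≠ ⊥) : IsFractionRing (thin C I) L := by
  obtain ⟨a, haI, ha0⟩ := Submodule.exists_mem_ne_zero_of_ne_bot hI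
  have ha : algebraMap D L a ≠ 0 := by
    rwa [Ne, map_eq_zero_iff _ hinj]
  have hmem : ∀ c : C, algebraMap D L a * c ∈ thin C I := fun c => by
    refine smul_le_thin C I ?_
    rw [← Algebra.smul_def]
    exact Submodule.smul_mem_smul haI c.2
  refine IsFractionRing.of_field (thin C I) L fun z => ?_
  obtain ⟨x, y, hy, rfl⟩ := IsFractionRing.div_surjective (A := C) z
  refine ⟨⟨_, hmem x⟩, ⟨_, hmem y⟩, ?_⟩
  change _ = (algebraMap D L a * (x : L)) / (algebraMap D L a * (y : L))
  rw [mul_div_mul_left _ _ ha]
  rfl

/-- The finiteness of the integral closure can be checked after a finite subextension. -/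
theorem finite_integralClosure_of_finite {D : Type u} [CommRing D] {L : Type u} [Field L]
    [Algebra D L] (S : Subalgebra D L) [Module.Finite D S]
    (h : Module.Finite S (integralClosure S L)) : Module.Finite D (integralClosure D L) := by
  have : Module.Finite D (integralClosure S L) := Module.Finite.trans S _
  have hint : Algebra.IsIntegral D S := inferInstance
  let f : integralClosure D L ≃ₗ[D] integralClosure S L :=
    { toFun := fun x => ⟨x.1, IsIntegral.tower_top (R := D) (A := S) x.2⟩
      invFun := fun x => ⟨x.1, isIntegral_trans (R := D) (A := S) _ x.2⟩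
      map_add' := fun x y => rfl
      map_smul' := fun r x => by
        apply Subtype.ext
        change r • (x : L) = r • (x : L)
        rfl
      left_inv := fun x => rfl
      right_inv := fun x => rfl }
  exact Module.Finite.equiv f.symm

theorem isNagata_of_forall (R : Type u) [CommRing R] [IsLocalRing R] [IsNoetherianRing R]
    (h : ∀ (S : Type u) [CommRing S] [IsDomain S] [IsLocalRing S] [Algebra R S]
      [IsLocalHom (algebraMap R S)] [Module.Finite R S],
      IsReduced (AdicCompletion (IsLocalRing.maximalIdeal S) S)) : CAlg.IsNagata R := by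
  refine ⟨‹_›, fun p hp => ?_⟩
  have : IsLocalRing (R ⧸ p) :=
    IsLocalRing.of_surjective' (Ideal.Quotient.mk _) Ideal.Quotient.mk_surjective
  have hlocRD : IsLocalHom (algebraMap R (R ⧸ p)) :=
    IsLocalHom.of_surjective _ Ideal.Quotient.mk_surjective
  refine Groth.Agent.CalgA.NagataBasic.isN2_of_forall (FractionRing (R ⧸ p)) ?_
  intro L _ _ _ _ _
  have hinj : Function.Injective (algebraMap (R ⧸ p) L) := by
    rw [IsScalarTower.algebraMap_eq (R ⧸ p) (FractionRing (R ⧸ p)) L]
    exact (algebraMap _ L).injective.comp (IsFractionRing.injective (R ⧸ p) (FractionRing (R ⧸ p)))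
  by_cases hm : maximalIdeal (R ⧸ p) = ⊥
  · -- the base is a field
    have hf : IsField (R ⧸ p) := IsLocalRing.isField_iff_maximalIdeal_eq.2 hm
    have hbij : Function.Bijective (algebraMap (R ⧸ p) (FractionRing (R ⧸ p))) :=
      IsField.localization_map_bijective (M := nonZeroDivisors (R ⧸ p)) zero_notMem_nonZeroDivisors hf
    have h1 : Module.Finite (R ⧸ p) (FractionRing (R ⧸ p)) :=
      Module.Finite.of_surjective (Algebra.linearMap (R ⧸ p) (FractionRing (R ⧸ p))) hbij.2
    have h2 : Module.Finite (R ⧸ p) L := Module.Finite.trans (FractionRing (R ⧸ p)) L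
    have h3 : IsNoetherian (R ⧸ p) L := isNoetherian_of_isNoetherianRing_of_finite _ _
    exact Module.Finite.of_injective (integralClosure (R ⧸ p) L).val.toLinearMap
      Subtype.val_injective
  · obtain ⟨C, hCfin, hCfrac⟩ := Groth.Agent.Ega4C.FracSub.exists_finite_subalgebra (R ⧸ p)
      (FractionRing (R ⧸ p)) L
    let S := thin C (maximalIdeal (R ⧸ p))
    have hSfin : Module.Finite (R ⧸ p) S := finite_thin C _
    have hSloc : IsLocalRing S := isLocalRing_thin C hinj
    have hSfrac : IsFractionRing S L := isFractionRing_thin hinj C _ hm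
    have hinjS : Function.Injective (algebraMap (R ⧸ p) S) := by
      intro x y hxy
      apply hinj
      exact congrArg Subtype.val hxy
    let : Algebra R S := ((algebraMap (R ⧸ p) S).comp (algebraMap R (R ⧸ p))).toAlgebra
    have : IsScalarTower R (R ⧸ p) S := IsScalarTower.of_algebraMap_eq fun r => rfl
    have hfinRS : Module.Finite R S := Module.Finite.trans (R ⧸ p) S
    have hlocDS : IsLocalHom (algebraMap (R ⧸ p) S) :=
      (algebraMap_isIntegral_iff.2 inferInstance).isLocalHom hinjS
    have hloc : IsLocalHom (algebraMap R S) := by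
      rw [IsScalarTower.algebraMap_eq R (R ⧸ p) S]
      infer_instance
    have hred : IsReduced (AdicCompletion (maximalIdeal S) S) := h S
    have hnoeth : IsNoetherianRing S := IsNoetherianRing.of_finite R S
    have hN1 : IsN1 S := Groth.Agent.S2072.result
    rw [Groth.Agent.CalgA.NagataBasic.isN1_iff L] at hN1
    exact finite_integralClosure_of_finite S hN1

theorem isNagata_iff (R : Type u) [CommRing R] [IsLocalRing R] [IsNoetherianRing R] :
    CAlg.IsNagata R ↔ ∀ (S : Type u) [CommRing S] [IsDomain S] [IsLocalRing S] [Algebra R S]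
      [IsLocalHom (algebraMap R S)] [Module.Finite R S],
      IsReduced (AdicCompletion (IsLocalRing.maximalIdeal S) S) := by
  refine ⟨fun h S _ _ _ _ _ _ => ?_, isNagata_of_forall R⟩
  exact Groth.Agent.S0576.result S (Groth.Agent.S0575.result R h S)

end K74.NagataLocal
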