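import Mathlib.RingTheory.Etale.Basic
import Mathlib.RingTheory.Kaehler.Basic

/-!
# Principal parts and formally étale extensions (S9445)
-/

set_option autoImplicit false
universe u

open TensorProduct

namespace K74.PrincParts

/-- The infinitesimal lifting property of formally étale maps, for ring homomorphisms. -/
theorem exists_lift {S S' : Type u} [CommRing S] [CommRing S'] [Algebra S S']
    [Algebra.FormallyEtale S S'] {P : Type u} [CommRing P] (N : Ideal P) (hN : IsNilpotent N)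
    (ι : S →+* P) (g : S' →+* P ⧸ N)
    (hg : ∀ s, g (algebraMap S S' s) = Ideal.Quotient.mk N (ι s)) :
    ∃ l : S' →+* P, (∀ s, l (algebraMap S S' s) = ι s) ∧ ∀ x, Ideal.Quotient.mk N (l x) = g x := by
  let : Algebra S P := ι.toAlgebra
  let g' : S' →ₐ[S] P ⧸ N := { g with commutes' := hg }
  let l : S' →ₐ[S] P := Algebra.FormallySmooth.lift N hN g'
  exact ⟨l, fun s => l.commutes s, fun x => Algebra.FormallySmooth.mk_lift N hN g' x⟩

theorem unique_lift {S S' : Type u} [CommRing S] [CommRing S'] [Algebra S S']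
    [Algebra.FormallyEtale S S'] {P : Type u} [CommRing P] (N : Ideal P) (hN : IsNilpotent N)
    (l l' : S' →+* P)
    (h : ∀ s, l (algebraMap S S' s) = l' (algebraMap S S' s))
    (h' : ∀ x, Ideal.Quotient.mk N (l x) = Ideal.Quotient.mk N (l' x)) : l = l' := by
  let : Algebra S P := (l.comp (algebraMap S S')).toAlgebra
  let a : S' →ₐ[S] P := { l with commutes' := fun s => rfl }
  let b : S' →ₐ[S] P := { l' with commutes' := fun s => (h s).symm }
  have : a = b := Algebra.FormallyUnramified.ext N hN h'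
  ext x
  exact congr($this x)

theorem main (R : Type u) [CommRing R]
    (S : Type u) [CommRing S] [Algebra R S] (S' : Type u) [CommRing S'] [Algebra R S']
    [Algebra S S'] [IsScalarTower R S S'] [Algebra.FormallyEtale S S'] (k : ℕ) :
    Function.Bijective (Ideal.quotientMap (KaehlerDifferential.ideal R S' ^ (k + 1))
      (Algebra.TensorProduct.map (AlgHom.id S' S') (IsScalarTower.toAlgHom R S S')).toRingHom
      (Ideal.le_comap_pow
        (Algebra.TensorProduct.map (AlgHom.id S' S') (IsScalarTower.toAlgHom R S S')).toRingHom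
        (K := KaehlerDifferential.ideal R S') (k + 1))) := by
  set φ : S' ⊗[R] S →ₐ[S'] S' ⊗[R] S' :=
    Algebra.TensorProduct.map (AlgHom.id S' S') (IsScalarTower.toAlgHom R S S') with hφdef
  set J := KaehlerDifferential.ideal R S' with hJdef
  set I : Ideal (S' ⊗[R] S) := J.comap φ.toRingHom with hIdef
  have hφ : ∀ (a : S') (s : S), φ (a ⊗ₜ s) = a ⊗ₜ algebraMap S S' s := fun a s => by
    simp [hφdef]
  let P := (S' ⊗[R] S) ⧸ I ^ (k + 1)
  let P' := (S' ⊗[R] S') ⧸ J ^ (k + 1)
  let N : Ideal P := I.map (Ideal.Quotient.mk (I ^ (k + 1)))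
  have hN : N ^ (k + 1) = ⊥ := by
    rw [← Ideal.map_pow, Ideal.map_quotient_self]
  let N' : Ideal P' := J.map (Ideal.Quotient.mk (J ^ (k + 1)))
  have hN' : N' ^ (k + 1) = ⊥ := by
    rw [← Ideal.map_pow, Ideal.map_quotient_self]
  -- `a ⊗ s` is congruent to `a s ⊗ 1` modulo `I`
  have hI : ∀ s : S, (1 : S') ⊗ₜ[R] s - (algebraMap S S' s) ⊗ₜ[R] (1 : S) ∈ I := by
    intro s
    change φ _ ∈ J
    rw [map_sub, hφ, hφ, map_one, hJdef, KaehlerDifferential.ideal, RingHom.mem_ker, map_sub,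
      sub_eq_zero]
    simp
  have hJ : ∀ b : S', (1 : S') ⊗ₜ[R] b - b ⊗ₜ[R] (1 : S') ∈ J := by
    intro b
    rw [hJdef, KaehlerDifferential.ideal, RingHom.mem_ker, map_sub, sub_eq_zero]
    simp
  -- the lift `l : S' → P`
  let ι : S →+* P := (Ideal.Quotient.mk (I ^ (k + 1))).comp
    (Algebra.TensorProduct.includeRight : S →ₐ[R] S' ⊗[R] S).toRingHom
  let g : S' →+* P ⧸ N := (Ideal.Quotient.mk N).comp ((Ideal.Quotient.mk (I ^ (k + 1))).comp
    (Algebra.TensorProduct.includeLeftRingHom : S' →+* S' ⊗[R] S))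
  obtain ⟨l, hl, hl'⟩ := exists_lift N ⟨k + 1, hN⟩ ι g (fun s => by
    change Ideal.Quotient.mk N (Ideal.Quotient.mk (I ^ (k + 1)) ((algebraMap S S' s) ⊗ₜ[R] (1 : S))) =
      Ideal.Quotient.mk N (Ideal.Quotient.mk (I ^ (k + 1)) ((1 : S') ⊗ₜ[R] s))
    rw [eq_comm, Ideal.Quotient.eq, ← map_sub]
    exact Ideal.mem_map_of_mem _ (hI s))
  let lR : S' →ₐ[R] P :=
    { l with
      commutes' := fun r => by
        change l (algebraMap R S' r) = _
        rw [IsScalarTower.algebraMap_apply R S S', hl]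
        change Ideal.Quotient.mk (I ^ (k + 1)) ((1 : S') ⊗ₜ[R] (algebraMap R S r)) = _
        rw [Algebra.algebraMap_eq_smul_one, ← TensorProduct.smul_tmul, ← Algebra.algebraMap_eq_smul_one]
        rfl }
  let ψ : S' ⊗[R] S' →ₐ[S'] P :=
    Algebra.TensorProduct.lift (Algebra.ofId S' P) lR (fun _ _ => Commute.all _ _)
  have hψ : ∀ a b : S', ψ (a ⊗ₜ b) = Ideal.Quotient.mk (I ^ (k + 1)) (a ⊗ₜ 1) * l b := fun a b => by
    change Algebra.TensorProduct.lift (Algebra.ofId S' P) lR (fun _ _ => Commute.all _ _) (a ⊗ₜ b) = _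
    rw [Algebra.TensorProduct.lift_tmul]
    rfl
  -- `ψ ∘ φ` is the quotient map
  have hψφ : ∀ x : S' ⊗[R] S, ψ (φ x) = Ideal.Quotient.mk (I ^ (k + 1)) x := by
    intro x
    induction x with
    | zero => simp
    | tmul a s =>
      rw [hφ, hψ, hl]
      change _ * Ideal.Quotient.mk (I ^ (k + 1)) ((1 : S') ⊗ₜ s) = _
      rw [← map_mul, Algebra.TensorProduct.tmul_mul_tmul, mul_one, one_mul]
    | add x y hx hy => rw [map_add, map_add, hx, hy, map_add]
  -- `ψ` maps `J` into `N`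
  have hψm : ∀ y : S' ⊗[R] S', Ideal.Quotient.mk N (ψ y) = Ideal.Quotient.mk N
      (Ideal.Quotient.mk (I ^ (k + 1)) ((Algebra.TensorProduct.lmul' R y) ⊗ₜ[R] (1 : S))) := by
    intro y
    induction y with
    | zero => simp
    | tmul a b =>
      rw [hψ, map_mul, hl', Algebra.TensorProduct.lmul'_apply_tmul]
      change _ * Ideal.Quotient.mk N (Ideal.Quotient.mk (I ^ (k + 1)) (b ⊗ₜ[R] (1 : S))) = _
      rw [← map_mul, ← map_mul, Algebra.TensorProduct.tmul_mul_tmul, mul_one]
    | add x y hx hy => rw [map_add, map_add, hx, hy, map_add, add_tmul, map_add, map_add]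
  have hψJ : ∀ y ∈ J, ψ y ∈ N := by
    intro y hy
    rw [← Ideal.Quotient.eq_zero_iff_mem, hψm]
    have : Algebra.TensorProduct.lmul' R y = 0 := hy
    rw [this, zero_tmul, map_zero, map_zero]
  have hψJk : ∀ y ∈ J ^ (k + 1), ψ y = 0 := by
    intro y hy
    have h1 : J ≤ N.comap ψ.toRingHom := hψJ
    have h2 : J ^ (k + 1) ≤ (N ^ (k + 1)).comap ψ.toRingHom :=
      (Ideal.pow_right_mono h1 (k + 1)).trans (Ideal.le_comap_pow _ _)
    have h3 := h2 hy
    rw [hN] at h3
    exact h3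
  constructor
  · rw [injective_iff_map_eq_zero]
    intro x hx
    obtain ⟨x, rfl⟩ := Ideal.Quotient.mk_surjective x
    rw [Ideal.quotientMap_mk, Ideal.Quotient.eq_zero_iff_mem] at hx
    rw [← hψφ]
    exact hψJk _ hx
  · intro y
    obtain ⟨y, rfl⟩ := Ideal.Quotient.mk_surjective y
    refine ⟨ψ y, ?_⟩
    set Φ : P →+* P' := Ideal.quotientMap (J ^ (k + 1)) φ.toRingHom
      (Ideal.le_comap_pow φ.toRingHom (K := J) (k + 1)) with hΦ
    have hΦmk : ∀ x, Φ (Ideal.Quotient.mk _ x) = Ideal.Quotient.mk _ (φ x) := fun x =>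
      Ideal.quotientMap_mk
    have hΦN : ∀ x ∈ N, Φ x ∈ N' := by
      have : N ≤ N'.comap Φ := by
        refine Ideal.map_le_iff_le_comap.2 fun x hx => ?_
        change Φ (Ideal.Quotient.mk _ x) ∈ N'
        rw [hΦmk]
        exact Ideal.mem_map_of_mem _ hx
      exact this
    -- the two maps `S' → P'` agree
    let r : S' →+* P' := (Ideal.Quotient.mk (J ^ (k + 1))).comp
      (Algebra.TensorProduct.includeRight : S' →ₐ[R] S' ⊗[R] S').toRingHom
    have key : Φ.comp l = r := by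
      refine unique_lift (S := S) (S' := S') N' ⟨k + 1, hN'⟩ _ _ (fun s => ?_) (fun x => ?_)
      · change Φ (l (algebraMap S S' s)) = Ideal.Quotient.mk _ ((1 : S') ⊗ₜ[R] algebraMap S S' s)
        rw [hl]
        change Φ (Ideal.Quotient.mk _ ((1 : S') ⊗ₜ[R] s)) = _
        rw [hΦmk, hφ]
      · change Ideal.Quotient.mk N' (Φ (l x)) =
          Ideal.Quotient.mk N' (Ideal.Quotient.mk _ ((1 : S') ⊗ₜ[R] x))
        have h1 : l x - Ideal.Quotient.mk (I ^ (k + 1)) (x ⊗ₜ[R] (1 : S)) ∈ N := by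
          rw [← Ideal.Quotient.eq]
          exact hl' x
        have h2 := hΦN _ h1
        rw [map_sub, hΦmk, hφ, map_one] at h2
        have h3 : Ideal.Quotient.mk (J ^ (k + 1)) ((1 : S') ⊗ₜ[R] x) -
            Ideal.Quotient.mk (J ^ (k + 1)) (x ⊗ₜ[R] (1 : S')) ∈ N' := by
          rw [← map_sub]
          exact Ideal.mem_map_of_mem _ (hJ x)
        rw [Ideal.Quotient.eq]
        have h4 := N'.sub_mem h2 h3
        rwa [sub_sub_sub_cancel_right] at h4
    induction y with
    | zero => rw [map_zero, map_zero, map_zero]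
    | tmul a b =>
      rw [hψ, map_mul, hΦmk, hφ, map_one]
      have h1 : Φ (l b) = Ideal.Quotient.mk (J ^ (k + 1)) ((1 : S') ⊗ₜ[R] b) := congr($key b)
      rw [h1, ← map_mul, Algebra.TensorProduct.tmul_mul_tmul, mul_one, one_mul]
    | add x y hx hy => rw [map_add, map_add, hx, hy, map_add]

end K74.PrincParts
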