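import Groth.Agent.Ega4B.SkLocal
import Groth.Agent.Ega4B.DepthBasic
import Groth.Agent.Ega4A.SkFlat
import Groth.Agent.Ega4A.RkBasic
import Groth.Agent.S2608
import Groth.Agent.Etbase.NoethDescent

/-!
# Descent of Serre's conditions along faithfully flat ring maps

* `hasSk_descent`, `hasRk_descent` (only the big ring is assumed Noetherian)
-/

set_option autoImplicit false
universe u

open IsLocalRing TensorProduct

namespace K74.SerreDescent

theorem hasSkAt_congr (n : ℕ) {R M N : Type u} [CommRing R] [AddCommGroup M] [Module R M]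
    [AddCommGroup N] [Module R N] (e : M ≃ₗ[R] N) (p : Ideal R) [p.IsPrime]
    (h : EGA4.HasSkAt n R M p) : EGA4.HasSkAt n R N p := by
  have e' := IsLocalizedModule.mapEquiv p.primeCompl (LocalizedModule.mkLinearMap p.primeCompl M)
    (LocalizedModule.mkLinearMap p.primeCompl N) (Localization.AtPrime p) e
  exact Groth.Agent.Ega4B.DepthBasic.hasSk_of_equiv n e' h

theorem hasSk_descent (k : ℕ) (R : Type u) [CommRing R] (S : Type u) [CommRing S]
    [Algebra R S] [Module.FaithfullyFlat R S] [IsNoetherianRing S] (hS : LocCoh.HasSk k S S) :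
    IsNoetherianRing R ∧ LocCoh.HasSk k R R := by
  have hR : IsNoetherianRing R := Groth.Agent.Etbase.NoethDescent.isNoetherianRing_of_faithfullyFlat R S
  refine ⟨hR, ?_⟩
  have e : (S ⊗[R] R) ≃ₗ[S] S := TensorProduct.AlgebraTensorModule.rid R S S
  rw [Groth.Agent.Ega4B.SkLocal.hasSk_iff_forall_hasSkAt] at hS ⊢
  intro p hp
  obtain ⟨q, hq, hqp⟩ := Ideal.exists_isPrime_liesOver_of_faithfullyFlat (B := S) p
  obtain rfl : p = q.comap (algebraMap R S) := hqp.over
  refine Groth.Agent.Ega4A.SkFlat.hasSkAt_base k R S R S ⟨q, hq⟩ ?_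
    (hasSkAt_congr k e.symm q (hS q))
  rw [Module.support_eq_zeroLocus]
  have : Module.annihilator S S = ⊥ := Module.annihilator_eq_bot.2 inferInstance
  rw [this]
  simp

theorem hasRk_iff_forall (k : ℕ) (B : Type u) [CommRing B] :
    LocCoh.HasRk k B ↔ ∀ (p : Ideal B) [p.IsPrime], EGA4.HasRkAt k B p := by
  constructor
  · intro h p hp
    rw [Groth.Agent.Ega4A.RkBasic.hasRkAt_iff]
    intro p' hp' _ hk
    exact h p' hk
  · intro h p hp hk
    have h1 := h p
    rw [Groth.Agent.Ega4A.RkBasic.hasRkAt_iff] at h1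
    exact h1 p le_rfl hk

theorem hasRk_descent (k : ℕ) (R : Type u) [CommRing R] (S : Type u) [CommRing S]
    [Algebra R S] [Module.FaithfullyFlat R S] [IsNoetherianRing S] (hS : LocCoh.HasRk k S) :
    IsNoetherianRing R ∧ LocCoh.HasRk k R := by
  have hR : IsNoetherianRing R := Groth.Agent.Etbase.NoethDescent.isNoetherianRing_of_faithfullyFlat R S
  refine ⟨hR, ?_⟩
  rw [hasRk_iff_forall] at hS ⊢
  intro p hp
  obtain ⟨q, hq, hqp⟩ := Ideal.exists_isPrime_liesOver_of_faithfullyFlat (B := S) p
  obtain rfl : p = q.comap (algebraMap R S) := hqp.over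
  exact Groth.Agent.S2608.result k R S q (hS q)

end K74.SerreDescent
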